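import Cfsg.Agent.Lyons.Chars.Char

/-!
`E = 1`: five classes of elements of order four, each meeting three cosets of `W` which form a subgroup with `W`.
-/

set_option autoImplicit false
set_option linter.unusedSectionVars false
set_option linter.style.haveILetI false

namespace Cfsg.Lib.Lyons

open Subgroup Cfsg.Lib.BenderSE.Ring2

universe u

variable {G : Type u} [Group G] [Finite G]

namespace Frame

variable (F : Frame G)

theorem sq_conj (g s : G) : g * s * g⁻¹ * (g * s * g⁻¹) = g * (s * s) * g⁻¹ := by group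

theorem sq_mul_W {s w : G} (hs : s ∈ (F.S : Subgroup G)) (hw : w ∈ F.W) : s * w * (s * w) = s * s := by
  rw [show s * w * (s * w) = s * (w * s) * w by group, ← cenOf_comm hw hs,
    show s * (s * w) * w = s * s * (w * w) by group, F.ufour.sq_one hw, mul_one]

/-- `f` moves every involution of `W`. -/
theorem f_fix_W {w : G} (hw : w ∈ F.W) (h : F.f * w * F.f⁻¹ = w) : w = 1 := by
  by_contra hw1
  obtain ⟨k, rfl⟩ := F.exists_pow_conj hw hw1
  refine F.f_moves (mul_left_cancel (a := F.f ^ k) (mul_right_cancel (b := (F.f ^ k)⁻¹) (Eq.trans ?_ h)))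
  group

theorem f_sq_z : F.f ^ 2 * F.z * (F.f ^ 2)⁻¹ = F.z * F.z2 := by
  have e2 : F.f ^ 2 * F.z * (F.f ^ 2)⁻¹ = F.f * F.z2 * F.f⁻¹ := by rw [Frame.z2, pow_two]; group
  rcases F.W_cases (F.conj_mem_W 2 F.z_mem_W) with h | h | h | h
  · refine absurd (mul_left_cancel (a := F.f ^ 2) (mul_right_cancel (b := (F.f ^ 2)⁻¹) ?_)) F.z_ne
    rw [h]; group
  · exfalso
    obtain ⟨m, hm⟩ := F.f_odd
    have h2 : F.f ^ 2 ∈ F.C := F.mem_C.2 (mul_inv_eq_iff_eq_mul.1 h)
    refine F.f_moves (mul_inv_eq_iff_eq_mul.2 (F.mem_C.1 ?_))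
    rw [show F.f = (F.f ^ 2) ^ (m + 1) by
      rw [← pow_mul, show 2 * (m + 1) = orderOf F.f + 1 by omega, pow_succ, pow_orderOf_eq_one, one_mul]]
    exact pow_mem h2 _
  · exact absurd (F.f_fix_W F.z2_mem (e2.symm.trans h)) F.z2_ne_one
  · exact h

theorem f_cube : F.f ^ 3 ∈ F.C := by
  refine F.mem_C.2 (mul_inv_eq_iff_eq_mul.1 ?_)
  have h : F.f ^ 3 * F.z * (F.f ^ 3)⁻¹ = F.z2 * (F.z * F.z2) := by
    rw [show F.f ^ 3 * F.z * (F.f ^ 3)⁻¹ = F.f * (F.f ^ 2 * F.z * (F.f ^ 2)⁻¹) * F.f⁻¹ by group, F.f_sq_z]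
    conv_rhs => rw [← F.f_sq_z, Frame.z2]
    rw [show F.f * (F.z * F.z2) * F.f⁻¹ = F.f * F.z * F.f⁻¹ * (F.f * F.z2 * F.f⁻¹) by group, Frame.z2]
    group
  rw [h, ← mul_assoc, ← cenOf_comm F.z2_mem F.z_mem_S, mul_assoc, F.ufour.sq_one F.z2_mem, mul_one]

/-- `W` inside `S`. -/
def VS : Subgroup ↥(F.S : Subgroup G) := F.W.subgroupOf (F.S : Subgroup G)

instance : F.VS.Normal := ⟨fun x hx g => by
  refine mem_subgroupOf.2 ?_
  show (g : G) * x * (g : G)⁻¹ ∈ F.W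
  rw [cenOf_comm (mem_subgroupOf.1 hx) g.2, mul_inv_cancel_right]
  exact mem_subgroupOf.1 hx⟩

theorem mk_eq {s t : ↥(F.S : Subgroup G)} :
    (QuotientGroup.mk' F.VS s = QuotientGroup.mk' F.VS t) ↔ (s : G)⁻¹ * t ∈ F.W :=
  QuotientGroup.eq.trans mem_subgroupOf

theorem mk_eq_one {s : ↥(F.S : Subgroup G)} : QuotientGroup.mk' F.VS s = 1 ↔ (s : G) ∈ F.W :=
  (QuotientGroup.eq_one_iff _).trans mem_subgroupOf

theorem mk_sq {s t : ↥(F.S : Subgroup G)} (h : QuotientGroup.mk' F.VS s = QuotientGroup.mk' F.VS t) :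
    (s : G) * s = (t : G) * t := by
  have hw := F.mk_eq.1 h
  rw [show (t : G) = (s : G) * ((s : G)⁻¹ * t) from (mul_inv_cancel_left _ _).symm, F.sq_mul_W s.2 hw]

namespace One

variable {F} (E : F.One)
include E

/-- An element of `C` fixes the cosets of `W` in `S`. -/
theorem conj_mem_coset {a c : G} (ha : a ∈ (F.S : Subgroup G)) (hc : c ∈ F.C)
    (hca : c * a * c⁻¹ ∈ (F.S : Subgroup G)) : a⁻¹ * (c * a * c⁻¹) ∈ F.W := by
  obtain ⟨o, ho, s, hs, rfl⟩ := E.cover c hc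
  set t := s * a * s⁻¹ with ht
  have htS : t ∈ (F.S : Subgroup G) := mul_mem (mul_mem hs ha) (inv_mem hs)
  have h1 : o * s * a * (o * s)⁻¹ = o * t * o⁻¹ := by rw [ht]; group
  have h2 : o * t * o⁻¹ = t := by
    refine E.pre.S_eq (h1 ▸ hca) htS (E.pre.O_le_K ?_)
    rw [show t⁻¹ * (o * t * o⁻¹) = t⁻¹ * o * t⁻¹⁻¹ * o⁻¹ by group]
    exact mul_mem (F.conj_mem_O (inv_mem (F.sylow_le_C htS)) ho) (inv_mem ho)
  rw [h1, h2, ht, show a⁻¹ * (s * a * s⁻¹) = a⁻¹ * s * a⁻¹⁻¹ * s⁻¹ by group]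
  exact F.ufour.comm_cen (inv_mem ha) hs

/-- A coset of `W` outside `W` lies in one class. -/
theorem coset_conj {a b : G} (ha : a ∈ (F.S : Subgroup G)) (haW : a ∉ F.W) (hab : a⁻¹ * b ∈ F.W) :
    IsConj a b := by
  obtain ⟨t, -, ht⟩ := F.ufour.exists_comm ha haW hab
  refine isConj_iff.2 ⟨t, ?_⟩
  rw [ht, ← cenOf_comm hab ha, mul_inv_cancel_left]

/-- Five representatives. -/
theorem exists_reps : ∃ a : Fin 5 → G, (∀ j, a j ∈ (F.S : Subgroup G) ∧ a j ∉ F.W ∧ a j * a j = F.z) ∧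
    (∀ i j, IsConj (a i) (a j) → i = j) ∧
    ∀ s ∈ (F.S : Subgroup G), s ∉ F.W → ∃ j, IsConj s (a j) := by
  classical
  letI := Fintype.ofFinite (↥(F.S : Subgroup G) ⧸ F.VS)
  set π := QuotientGroup.mk' F.VS with hπ
  let r : ↥(F.S : Subgroup G) ⧸ F.VS → ↥(F.S : Subgroup G) := fun q => q.out
  have hr : ∀ q, π (r q) = q := fun q => q.out_eq'
  let sq : ↥(F.S : Subgroup G) ⧸ F.VS → G := fun q => (r q : G) * r q
  have hsq : ∀ s, sq (π s) = (s : G) * s := fun s => F.mk_sq (hr (π s))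
  let cj : ℕ → ↥(F.S : Subgroup G) ⧸ F.VS → ↥(F.S : Subgroup G) ⧸ F.VS := fun k q =>
    π ⟨F.f ^ k * r q * (F.f ^ k)⁻¹, F.conj_mem_S k (r q).2⟩
  have hcj : ∀ k, Function.Injective (cj k) := by
    intro k q q' h
    have h1 := F.mk_eq.1 h
    have h2 := F.conj_mem_W' k h1
    rw [← hr q, ← hr q']
    refine F.mk_eq.2 ?_
    refine (show (r q : G)⁻¹ * r q' = _ from ?_) ▸ h2
    group
  have hsqc : ∀ k q, sq (cj k q) = F.f ^ k * sq q * (F.f ^ k)⁻¹ := fun k q => (hsq _).trans (sq_conj _ _)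
  set T : G → Finset (↥(F.S : Subgroup G) ⧸ F.VS) := fun w => Finset.univ.filter fun q => sq q = w
  have hT : ∀ k, (T (F.f ^ k * F.z * (F.f ^ k)⁻¹)).card = (T F.z).card := by
    intro k
    have hb : Function.Bijective (cj k) := Finite.injective_iff_bijective.1 (hcj k)
    symm
    refine Finset.card_bij (fun q _ => cj k q) (fun q hq => Finset.mem_filter.2 ⟨Finset.mem_univ _, by
        rw [hsqc, (Finset.mem_filter.1 hq).2]⟩) (fun _ _ _ _ h => hcj k h) fun q hq => ?_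
    obtain ⟨q', rfl⟩ := hb.2 q
    refine ⟨q', Finset.mem_filter.2 ⟨Finset.mem_univ _, ?_⟩, rfl⟩
    have h := (Finset.mem_filter.1 hq).2
    rw [hsqc] at h
    exact mul_left_cancel (mul_right_cancel h)
  have hT1 : T 1 = {1} := by
    ext q
    rw [Finset.mem_filter, Finset.mem_singleton]
    constructor
    · intro h
      rw [← hr q]
      exact F.mk_eq_one.2 ((F.ufour.cen_iff _ (r q).2).1 h.2)
    · rintro rfl
      refine ⟨Finset.mem_univ _, ?_⟩
      rw [← map_one π, hsq]; simp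
  have hcard : Fintype.card (↥(F.S : Subgroup G) ⧸ F.VS) = 16 := by
    have h := Subgroup.card_eq_card_quotient_mul_card_subgroup F.VS
    rw [F.ufour.card_all, show Nat.card F.VS = 4 from (Nat.card_congr
      (subgroupOfEquivOfLe (fun x hx => hx.1 : F.W ≤ (F.S : Subgroup G))).toEquiv).trans F.ufour.card_cen] at h
    rw [← Nat.card_eq_fintype_card]
    omega
  have h5 : (T F.z).card = 5 := by
    have h := Finset.card_eq_sum_card_fiberwise (f := sq) (s := Finset.univ)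
      (t := ({1, F.z, F.z2, F.z * F.z2} : Finset G)) fun q _ => by
        simpa using F.W_cases (F.ufour.sq_cen _ (r q).2)
    rw [Finset.card_univ, hcard,
      Finset.sum_insert (by simp [F.z_ne.symm, F.z2_ne_one.symm, F.z_mul_z2_ne.symm]),
      Finset.sum_insert (by simp [F.z2_ne_z.symm, F.z2_ne_one]), Finset.sum_insert (by simp [F.z_ne]),
      Finset.sum_singleton] at h
    change 16 = (T 1).card + ((T F.z).card + ((T F.z2).card + (T (F.z * F.z2)).card)) at h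
    rw [hT1, Finset.card_singleton, show F.z2 = F.f ^ 1 * F.z * (F.f ^ 1)⁻¹ by rw [Frame.z2, pow_one], hT,
      show F.z * (F.f ^ 1 * F.z * (F.f ^ 1)⁻¹) = F.f ^ 2 * F.z * (F.f ^ 2)⁻¹ by
        rw [F.f_sq_z, Frame.z2, pow_one], hT] at h
    omega
  let e := (T F.z).equivFinOfCardEq h5
  have hmem : ∀ j, sq (e.symm j).1 = F.z := fun j => (Finset.mem_filter.1 (e.symm j).2).2
  have hW : ∀ j, (r (e.symm j).1 : G) ∉ F.W := fun j h => F.z_ne ((hmem j).symm.trans (F.ufour.sq_one h))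
  refine ⟨fun j => r (e.symm j).1, fun j => ⟨(r _).2, hW j, hmem j⟩, fun i j h => ?_, fun s hs hsW => ?_⟩
  · obtain ⟨k, hk⟩ := E.classes _ (r _).2 _ (r _).2 (hW i) h
    have hS : F.f ^ k * (r (e.symm i).1 : G) * (F.f ^ k)⁻¹ ∈ (F.S : Subgroup G) := F.conj_mem_S k (r _).2
    have h1 : F.f ^ k * F.z * (F.f ^ k)⁻¹ = F.z := by
      have h2 := F.sq_mul_W hS hk
      rw [mul_inv_cancel_left, sq_conj] at h2
      have h3 : (r (e.symm i).1 : G) * r (e.symm i).1 = F.z := hmem i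
      rw [h3] at h2
      exact h2.symm.trans (hmem j)
    have h2 := mul_mem (E.conj_mem_coset (r _).2 (F.mem_C.2 (mul_inv_eq_iff_eq_mul.1 h1)) hS) hk
    rw [mul_assoc, mul_inv_cancel_left] at h2
    have h3 := F.mk_eq.2 h2
    rw [hr, hr] at h3
    exact e.symm.injective (Subtype.ext h3)
  · obtain ⟨k, hk⟩ := F.exists_pow_conj (F.ufour.sq_cen s hs) fun h => hsW ((F.ufour.cen_iff s hs).1 h)
    set s' : ↥(F.S : Subgroup G) := ⟨(F.f ^ k)⁻¹ * s * F.f ^ k, F.conj_mem_S' k hs⟩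
    have hs'z : (s' : G) * s' = F.z := by
      show (F.f ^ k)⁻¹ * s * F.f ^ k * ((F.f ^ k)⁻¹ * s * F.f ^ k) = F.z
      rw [show (F.f ^ k)⁻¹ * s * F.f ^ k * ((F.f ^ k)⁻¹ * s * F.f ^ k) = (F.f ^ k)⁻¹ * (s * s) * F.f ^ k by group,
        ← hk]
      group
    have hq : π s' ∈ T F.z := Finset.mem_filter.2 ⟨Finset.mem_univ _, (hsq s').trans hs'z⟩
    refine ⟨e ⟨π s', hq⟩, ?_⟩
    show IsConj s (r (e.symm (e ⟨π s', hq⟩)).1 : G)
    rw [e.symm_apply_apply]
    refine IsConj.trans (isConj_iff.2 ⟨(F.f ^ k)⁻¹, by rw [inv_inv]⟩ : IsConj s (s' : G))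
      (E.coset_conj s'.2 (fun h => F.z_ne (hs'z.symm.trans (F.ufour.sq_one h))) (F.mk_eq.1 (hr (π s')).symm))

/-- The three cosets of a class form a subgroup with `W`. -/
theorem exists_line [Fintype ↥(F.S : Subgroup G)] {a : G} (ha : a ∈ (F.S : Subgroup G)) (haW : a ∉ F.W)
    (ha2 : a * a = F.z) :
    ∃ L : Subgroup ↥(F.S : Subgroup G), Nat.card L = 16 ∧
      ∀ f : G → ℂ, (∀ x y, IsConj x y → f x = f y) → ∀ [Fintype L],
        ∑ s : L, f ((s : ↥(F.S : Subgroup G)) : G) = f 1 + 3 * f F.z + 12 * f a := by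
  classical
  set π := QuotientGroup.mk' F.VS with hπ
  let aS : ℕ → ↥(F.S : Subgroup G) := fun k => ⟨F.f ^ k * a * (F.f ^ k)⁻¹, F.conj_mem_S k ha⟩
  have hsqk : ∀ k, (aS k : G) * aS k = F.f ^ k * F.z * (F.f ^ k)⁻¹ := fun k => by
    show F.f ^ k * a * (F.f ^ k)⁻¹ * (F.f ^ k * a * (F.f ^ k)⁻¹) = _
    rw [sq_conj, ha2]
  have h0 : (aS 0 : G) = a := by simp [aS]
  have h3 : π (aS 3) = π (aS 0) := (F.mk_eq.2 (by
    rw [h0]
    exact E.conj_mem_coset ha F.f_cube (F.conj_mem_S 3 ha))).symm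
  have hcomm : ∀ x y : ↥(F.S : Subgroup G), π x * π y = π y * π x := fun x y => by
    rw [← map_mul, ← map_mul]
    refine F.mk_eq.2 ?_
    show ((x : G) * y)⁻¹ * (y * x) ∈ F.W
    rw [show ((x : G) * y)⁻¹ * (y * x) = (y : G)⁻¹ * (x : G)⁻¹ * (y : G)⁻¹⁻¹ * (x : G)⁻¹⁻¹ by group]
    exact F.ufour.comm_cen (inv_mem y.2) (inv_mem x.2)
  have hinvol : ∀ x : ↥(F.S : Subgroup G), π x * π x = 1 := fun x => by
    rw [← map_mul]; exact F.mk_eq_one.2 (F.ufour.sq_cen _ x.2)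
  set v := π (aS 0)
  set w := π (aS 1)
  set u := π (aS 2)
  have hprod : v * w * u = 1 := by
    set P := aS 0 * aS 1 * aS 2
    set P' : ↥(F.S : Subgroup G) := ⟨F.f ^ 1 * P * (F.f ^ 1)⁻¹, F.conj_mem_S 1 P.2⟩
    have hP' : π P' = π P := by
      rw [show P' = aS 1 * aS 2 * aS 3 from Subtype.ext (by
        show F.f ^ 1 * (F.f ^ 0 * a * (F.f ^ 0)⁻¹ * (F.f ^ 1 * a * (F.f ^ 1)⁻¹) * (F.f ^ 2 * a * (F.f ^ 2)⁻¹)) *
          (F.f ^ 1)⁻¹ = F.f ^ 1 * a * (F.f ^ 1)⁻¹ * (F.f ^ 2 * a * (F.f ^ 2)⁻¹) * (F.f ^ 3 * a * (F.f ^ 3)⁻¹)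
        group), map_mul, map_mul, map_mul, map_mul, h3]
      rw [← map_mul π (aS 1) (aS 2), hcomm, map_mul, ← mul_assoc]
    have h := F.mk_sq hP'
    change F.f ^ 1 * P * (F.f ^ 1)⁻¹ * (F.f ^ 1 * P * (F.f ^ 1)⁻¹) = _ at h
    rw [sq_conj, pow_one] at h
    have h1 := (F.ufour.cen_iff _ P.2).1 (F.f_fix_W (F.ufour.sq_cen _ P.2) h)
    have h2 : π P = 1 := F.mk_eq_one.2 h1
    rwa [map_mul, map_mul] at h2
  have hne1 : ∀ k, π (aS k) ≠ 1 := fun k h => haW (by
    have h' := F.conj_mem_W' k (F.mk_eq_one.1 h)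
    change (F.f ^ k)⁻¹ * (F.f ^ k * a * (F.f ^ k)⁻¹) * F.f ^ k ∈ F.W at h'
    rwa [show (F.f ^ k)⁻¹ * (F.f ^ k * a * (F.f ^ k)⁻¹) * F.f ^ k = a by group] at h')
  have hz0 : F.f ^ 0 * F.z * (F.f ^ 0)⁻¹ = F.z := by simp
  have hz1 : F.f ^ 1 * F.z * (F.f ^ 1)⁻¹ = F.z2 := by simp [Frame.z2]
  have hvw : v ≠ w := fun h => by
    have h' := F.mk_sq h
    rw [hsqk, hsqk, hz0, hz1] at h'
    exact F.z2_ne_z h'.symm
  have hvu : v ≠ u := fun h => by
    have h' := F.mk_sq h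
    rw [hsqk, hsqk, hz0, F.f_sq_z] at h'
    exact F.z2_ne_one (mul_left_cancel (h'.symm.trans (mul_one F.z).symm))
  have hwu : w ≠ u := fun h => by
    have h' := F.mk_sq h
    rw [hsqk, hsqk, hz1, F.f_sq_z] at h'
    exact F.z_ne (mul_right_cancel (h'.symm.trans (one_mul F.z2).symm))
  have hvv : v * v = 1 := hinvol _
  have hww : w * w = 1 := hinvol _
  have huu : u * u = 1 := hinvol _
  have hvw' : v * w = u := by rw [← mul_one (v * w), ← huu, ← mul_assoc, hprod, one_mul]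
  have hwv : w * v = u := by rw [← hvw']; exact hcomm _ _
  have hvu' : v * u = w := by rw [← hvw', ← mul_assoc, hvv, one_mul]
  have huv : u * v = w := by rw [← hvu']; exact hcomm _ _
  have hwu' : w * u = v := by rw [← hwv, ← mul_assoc, hww, one_mul]
  have huw : u * w = v := by rw [← hwu']; exact hcomm _ _
  let H : Subgroup (↥(F.S : Subgroup G) ⧸ F.VS) :=
    { carrier := {q | q = 1 ∨ q = v ∨ q = w ∨ q = u}
      mul_mem' := by
        rintro x y (rfl | rfl | rfl | rfl) (rfl | rfl | rfl | rfl) <;>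
          simp only [one_mul, mul_one, hvv, hww, huu, hvw', hwv, hvu', huv, hwu', huw, Set.mem_ofPred_eq] <;> tauto
      one_mem' := Or.inl rfl
      inv_mem' := by
        rintro x (rfl | rfl | rfl | rfl)
        · exact Or.inl inv_one
        · exact Or.inr (Or.inl (inv_eq_of_mul_eq_one_right hvv))
        · exact Or.inr (Or.inr (Or.inl (inv_eq_of_mul_eq_one_right hww)))
        · exact Or.inr (Or.inr (Or.inr (inv_eq_of_mul_eq_one_right huu))) }
  set L := H.comap π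
  let R : Fin 4 → ↥(F.S : Subgroup G) := ![1, aS 0, aS 1, aS 2]
  have hR : ∀ i, π (R i) ∈ H := by
    intro i; fin_cases i
    · exact Or.inl (map_one π)
    · exact Or.inr (Or.inl rfl)
    · exact Or.inr (Or.inr (Or.inl rfl))
    · exact Or.inr (Or.inr (Or.inr rfl))
  have hwπ : ∀ x : F.W, π ⟨x, x.2.1⟩ = 1 := fun x => F.mk_eq_one.2 x.2
  let Φ : Fin 4 × F.W → L := fun q => ⟨R q.1 * ⟨q.2, q.2.2.1⟩, by
    rw [Subgroup.mem_comap, map_mul, hwπ, mul_one]; exact hR q.1⟩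
  have hΦ : Function.Bijective Φ := by
    constructor
    · intro q q' h
      have h' : R q.1 * ⟨q.2, q.2.2.1⟩ = R q'.1 * ⟨q'.2, q'.2.2.1⟩ := congrArg Subtype.val h
      have h1 := congrArg π h'
      rw [map_mul, map_mul, hwπ, hwπ, mul_one, mul_one] at h1
      have hi : q.1 = q'.1 := by
        have key : ∀ i j : Fin 4, π (R i) = π (R j) → i = j := by
          intro i j h
          fin_cases i <;> fin_cases j <;> first
            | rfl
            | exact absurd h.symm (by simpa [R] using hne1 _)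
            | exact absurd h (by simpa [R] using hne1 _)
            | exact absurd h hvw
            | exact absurd h.symm hvw
            | exact absurd h hvu
            | exact absurd h.symm hvu
            | exact absurd h hwu
            | exact absurd h.symm hwu
        exact key _ _ h1
      rw [hi, mul_right_inj] at h'
      exact Prod.ext hi (Subtype.ext (Subtype.ext_iff.1 h' :))
    · rintro ⟨s, hs⟩
      obtain ⟨i, hi⟩ : ∃ i, π (R i) = π s := by
        rcases (hs : π s = 1 ∨ π s = v ∨ π s = w ∨ π s = u) with h | h | h | h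
        exacts [⟨0, (map_one π).trans h.symm⟩, ⟨1, h.symm⟩, ⟨2, h.symm⟩, ⟨3, h.symm⟩]
      exact ⟨(i, ⟨_, F.mk_eq.1 hi⟩), Subtype.ext (Subtype.ext (mul_inv_cancel_left _ _))⟩
  refine ⟨L, ?_, fun f hf _ => ?_⟩
  · rw [← Nat.card_eq_of_bijective Φ hΦ, Nat.card_prod, Nat.card_fin,
      show Nat.card F.W = 4 from F.ufour.card_cen]
  · letI := Fintype.ofFinite F.W
    rw [← Fintype.sum_bijective Φ hΦ (fun q => f ((R q.1 : G) * q.2)) _ (fun _ => rfl), Fintype.sum_prod_type,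
      Fin.sum_univ_four]
    have hk : ∀ (k : ℕ) (x : F.W), f ((aS k : G) * x) = f a := by
      intro k x
      have hk' : (aS k : G) ∉ F.W := fun h => hne1 k (F.mk_eq_one.2 h)
      rw [← hf _ _ (E.coset_conj (aS k).2 hk' (by rw [inv_mul_cancel_left]; exact x.2)),
        ← hf a (aS k : G) (isConj_iff.2 ⟨_, rfl⟩)]
    have h1 : ∑ x : F.W, f (((R 0 : ↥(F.S : Subgroup G)) : G) * x) = f 1 + 3 * f F.z := by
      rw [← Finset.add_sum_erase _ _ (Finset.mem_univ (1 : F.W)),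
        Finset.sum_congr rfl (g := fun _ => f F.z) fun x hx => ?_, Finset.sum_const,
        Finset.card_erase_of_mem (Finset.mem_univ _), Finset.card_univ, ← Nat.card_eq_fintype_card,
        show Nat.card F.W = 4 from F.ufour.card_cen, nsmul_eq_mul]
      · simp [R]
      · obtain ⟨k, hk⟩ := F.exists_pow_conj x.2 fun e => Finset.ne_of_mem_erase hx (Subtype.ext e)
        refine (hf _ _ (isConj_iff.2 ⟨F.f ^ k, ?_⟩)).symm
        simp [R, hk]
    simp only []
    rw [h1, show R 1 = aS 0 from rfl, show R 2 = aS 1 from rfl, show R 3 = aS 2 from rfl]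
    simp only [hk, Finset.sum_const, Finset.card_univ, ← Nat.card_eq_fintype_card, nsmul_eq_mul,
      show Nat.card F.W = 4 from F.ufour.card_cen]
    push_cast
    ring

end One

end Frame

end Cfsg.Lib.Lyons
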