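import Cfsg.Agent.Lyons.Frame.Pre

/-!
`E = C₅`: `e` fixes only `W` in `S`, and `C` is the product `S × ⟨e⟩ mod 5 × O` as a set.
-/

set_option autoImplicit false
set_option linter.unusedSectionVars false
set_option linter.style.haveILetI false

namespace Cfsg.Lib.Lyons

open Subgroup Cfsg.Lib.BenderSE.Ring2

universe u

variable {G : Type u} [Group G] [Finite G]

namespace Frame

variable {F : Frame G} (E : F.Five)
include E

namespace Five

theorem orderOf_e : ∃ n : ℕ, orderOf E.e = 5 ^ n := by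
  haveI : Fact (Nat.Prime 5) := ⟨by norm_num⟩
  obtain ⟨n, hn⟩ := IsPGroup.iff_orderOf.1 E.e_pgroup ⟨E.e, mem_zpowers _⟩
  exact ⟨n, by rw [← hn, Subgroup.orderOf_mk]⟩

theorem odd_e : Odd (orderOf E.e) := by
  obtain ⟨n, hn⟩ := E.orderOf_e
  rw [hn]
  exact (by decide : Odd 5).pow

theorem pow_mem_O_iff (k : ℕ) : E.e ^ k ∈ F.O ↔ 5 ∣ k := by
  constructor
  · intro hk
    by_contra h5
    obtain ⟨a, b, hab⟩ := Int.isCoprime_iff_gcd_eq_one.2 (show Int.gcd (k : ℤ) 5 = 1 by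
      rw [show (5 : ℤ) = ((5 : ℕ) : ℤ) from rfl, Int.gcd_natCast_natCast k 5]
      exact (Nat.Coprime.symm ((Nat.Prime.coprime_iff_not_dvd (by norm_num)).2 h5)))
    refine E.e_notMem ?_
    have e1 : E.e = (E.e ^ k) ^ a * (E.e ^ 5) ^ b := by
      rw [← zpow_natCast E.e k, ← zpow_natCast E.e 5, ← zpow_mul, ← zpow_mul, ← zpow_add,
        show (k : ℤ) * a + ((5 : ℕ) : ℤ) * b = 1 by push_cast; linarith, zpow_one]
    rw [e1]
    exact mul_mem (zpow_mem hk a) (zpow_mem E.e_pow b)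
  · rintro ⟨m, rfl⟩
    rw [pow_mul]
    exact pow_mem E.e_pow m

theorem pow_five_comm {s : G} (hs : s ∈ (F.S : Subgroup G)) : E.e ^ 5 * s = s * E.e ^ 5 := by
  have h1 : E.e ^ 5 * s * (E.e ^ 5)⁻¹ * s⁻¹ ∈ (F.S : Subgroup G) :=
    mul_mem ((mem_normalizer_iff.1 (pow_mem E.e_norm 5) s).1 hs) (inv_mem hs)
  have h2 : E.e ^ 5 * s * (E.e ^ 5)⁻¹ * s⁻¹ ∈ F.O := by
    rw [show E.e ^ 5 * s * (E.e ^ 5)⁻¹ * s⁻¹ = E.e ^ 5 * (s * (E.e ^ 5)⁻¹ * s⁻¹) by group]
    exact mul_mem E.e_pow (F.conj_mem_O (F.sylow_le_C hs) (inv_mem E.e_pow))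
  have h := F.eq_one_of_odd h1 (F.odd_of_mem_O h2)
  rwa [mul_inv_eq_one, mul_inv_eq_iff_eq_mul] at h

theorem not_central : ¬ ∀ s ∈ (F.S : Subgroup G), E.e * s = s * E.e := by
  intro hall
  -- `O ⟨e⟩` would be an odd subgroup normal in `C`
  set M : Subgroup G := F.O ⊔ zpowers E.e with hM
  have hMC : M ≤ F.C := sup_le F.O_le_C (zpowers_le.2 E.e_mem)
  have hOn : ∀ {c : G}, c ∈ F.C → ∀ u ∈ F.O, c * u * c⁻¹ ∈ M := fun hc u hu =>
    mem_sup_left (F.conj_mem_O hc hu)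
  have hn : F.C ≤ normalizer (M : Set G) := by
    intro c hc
    refine Cfsg.Lib.BenderSE.mem_normalizer_of_maps_to ?_
    suffices h : M ≤ M.comap (MulAut.conj c).toMonoidHom from fun a ha => h ha
    refine sup_le (fun u hu => hOn hc u hu) (zpowers_le.2 ?_)
    show c * E.e * c⁻¹ ∈ M
    obtain ⟨o, ho, s, hs, k, rfl⟩ := E.cover c hc
    have e1 : o * s * E.e ^ k * E.e * (o * s * E.e ^ k)⁻¹ = o * (E.e * o⁻¹ * E.e⁻¹) * E.e := by
      calc o * s * E.e ^ k * E.e * (o * s * E.e ^ k)⁻¹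
          = o * (s * (E.e ^ k * E.e * (E.e ^ k)⁻¹) * s⁻¹) * o⁻¹ := by group
        _ = o * E.e * o⁻¹ := by
          rw [show E.e ^ k * E.e * (E.e ^ k)⁻¹ = E.e by rw [← pow_succ, pow_succ']; group, ← hall s hs,
            mul_inv_cancel_right]
        _ = _ := by group
    rw [e1]
    exact mul_mem (mem_sup_left (mul_mem ho (F.conj_mem_O E.e_mem (inv_mem ho)))) (mem_sup_right (mem_zpowers _))
  have hodd : Odd (Nat.card M) := by
    have hd : Nat.card M ∣ Nat.card F.O * Nat.card (zpowers E.e) := by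
      have hnm : zpowers E.e ≤ normalizer (F.O : Set G) := zpowers_le.2
        (Cfsg.Lib.BenderSE.mem_normalizer_of_maps_to fun u hu => F.conj_mem_O E.e_mem hu)
      have h := Subgroup.card_dvd_of_le (le_refl M)
      haveI : (F.O.subgroupOf M).Normal := (normal_subgroupOf_iff_le_normalizer le_sup_left).2
        (sup_le le_normalizer hnm)
      have hi : F.O.relIndex M ∣ Nat.card (zpowers E.e) := by
        haveI : (F.O.subgroupOf (zpowers E.e ⊔ F.O)).Normal := (normal_subgroupOf_iff_le_normalizer le_sup_right).2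
          (sup_le hnm le_normalizer)
        haveI : (F.O.subgroupOf (zpowers E.e)).Normal := normal_subgroupOf_of_le_normalizer hnm
        have h2 : F.O.relIndex (zpowers E.e) = F.O.relIndex (zpowers E.e ⊔ F.O) :=
          Nat.card_congr (QuotientGroup.quotientInfEquivProdNormalizerQuotient (zpowers E.e) F.O hnm).toEquiv
        rw [hM, sup_comm, ← h2]
        exact Subgroup.relIndex_dvd_card _ _
      rw [← Subgroup.card_mul_index (F.O.subgroupOf M), Nat.card_congr (subgroupOfEquivOfLe le_sup_left).toEquiv]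
      exact Nat.mul_dvd_mul_left _ hi
    refine Odd.of_dvd_nat (F.odd_O.mul ?_) hd
    rw [Nat.card_zpowers]; exact E.odd_e
  exact E.e_notMem (F.le_O hMC hodd hn (mem_sup_right (mem_zpowers _)))

/-- `e` fixes only `W` in `S`. -/
theorem fixed_le_W {s : G} (hs : s ∈ (F.S : Subgroup G)) (h : E.e * s = s * E.e) : s ∈ F.W := by
  classical
  haveI : Fact (Nat.Prime 5) := ⟨by norm_num⟩
  set A := zpowers E.e
  have hAn : A ≤ normalizer ((F.S : Subgroup G) : Set G) := zpowers_le.2 E.e_norm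
  letI : MulAction A (F.S : Subgroup G) :=
    { smul := fun a t => ⟨(a : G) * t * (a : G)⁻¹, (mem_normalizer_iff.1 (hAn a.2) t).1 t.2⟩
      one_smul := fun t => Subtype.ext (by show (1 : G) * t * (1 : G)⁻¹ = t; simp)
      mul_smul := fun a b t => Subtype.ext (by
        show ((a : G) * b) * t * ((a : G) * b)⁻¹ = a * (b * t * (b : G)⁻¹) * (a : G)⁻¹
        group) }
  have h1 := E.e_pgroup.card_modEq_card_fixedPoints (F.S : Subgroup G)
  set P : Subgroup G := (F.S : Subgroup G) ⊓ centralizer {E.e}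
  have hfix : ∀ t : (F.S : Subgroup G), t ∈ MulAction.fixedPoints A (F.S : Subgroup G) ↔ (t : G) ∈ P := by
    intro t
    constructor
    · intro ht
      refine ⟨t.2, mem_centralizer_singleton_iff.2 ?_⟩
      exact (mul_inv_eq_iff_eq_mul.1 (congrArg Subtype.val (ht ⟨E.e, mem_zpowers _⟩))).symm
    · rintro ⟨-, ht⟩ ⟨a, ha⟩
      obtain ⟨i, rfl⟩ := mem_zpowers_iff.1 ha
      refine Subtype.ext ?_
      show E.e ^ i * t * (E.e ^ i)⁻¹ = t
      rw [((show Commute E.e t from (mem_centralizer_singleton_iff.1 ht).symm).zpow_left i).eq,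
        mul_inv_cancel_right]
  have hcard : Nat.card (MulAction.fixedPoints A (F.S : Subgroup G)) = Nat.card P :=
    Nat.card_congr
      { toFun := fun t => ⟨(t.1 : G), (hfix t.1).1 t.2⟩
        invFun := fun t => ⟨⟨(t : G), t.2.1⟩, (hfix _).2 t.2⟩
        left_inv := fun _ => rfl
        right_inv := fun _ => rfl }
  rw [hcard, F.ufour.card_all] at h1
  have hWP : F.W ≤ P := fun w hw => ⟨hw.1, mem_centralizer_singleton_iff.2 (E.e_cen w hw).symm⟩
  have hdvd : Nat.card P ∣ 64 := F.ufour.card_all ▸ Subgroup.card_dvd_of_le inf_le_left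
  have h4 : 4 ∣ Nat.card P := by
    have h := Subgroup.card_dvd_of_le hWP
    rwa [show Nat.card F.W = 4 from F.ufour.card_cen] at h
  have hmem : Nat.card P ∈ Nat.divisors 64 := Nat.mem_divisors.2 ⟨hdvd, by norm_num⟩
  have hmod : Nat.card P % 5 = 4 := by
    have h2 : 64 % 5 = Nat.card P % 5 := h1
    omega
  have hcases : Nat.card P = 4 ∨ Nat.card P = 64 := by
    rw [show Nat.divisors 64 = ({1, 2, 4, 8, 16, 32, 64} : Finset ℕ) by decide] at hmem
    simp only [Finset.mem_insert, Finset.mem_singleton] at hmem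
    omega
  rcases hcases with hP | hP
  · have hWeq : F.W = P :=
      eq_of_le_of_card_ge hWP (by rw [hP]; exact le_of_eq F.ufour.card_cen.symm)
    rw [hWeq]
    exact ⟨hs, mem_centralizer_singleton_iff.2 h.symm⟩
  · exfalso
    have hPS : P = (F.S : Subgroup G) :=
      eq_of_le_of_card_ge inf_le_left (by rw [hP]; exact le_of_eq F.ufour.card_all)
    exact E.not_central fun t ht => (mem_centralizer_singleton_iff.1 (hPS ▸ ht : t ∈ P).2).symm

theorem fixed_pow {k : ℕ} (hk : ¬ 5 ∣ k) {s : G} (hs : s ∈ (F.S : Subgroup G))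
    (h : E.e ^ k * s = s * E.e ^ k) : s ∈ F.W := by
  refine E.fixed_le_W hs ?_
  obtain ⟨n, hn⟩ := E.orderOf_e
  obtain ⟨m, hm⟩ := exists_pow_eq_self_of_coprime (x := E.e) (n := k) (by
    rw [hn]
    exact (Nat.Coprime.symm (((Nat.Prime.coprime_iff_not_dvd (by norm_num)).2 hk).pow_left n)))
  rw [← hm]
  exact ((show Commute (E.e ^ k) s from h).pow_left m).eq

theorem fpf {k : ℕ} (hk : ¬ 5 ∣ k) {s : G} (hs : s ∈ (F.S : Subgroup G))
    (h : E.e ^ k * s * (E.e ^ k)⁻¹ * s⁻¹ ∈ F.W) : s ∈ F.W := by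
  refine E.fixed_pow hk hs ?_
  set g := E.e ^ k
  set w := g * s * g⁻¹ * s⁻¹ with hw
  have hgw : g * w = w * g := ((show Commute E.e w from E.e_cen w h).pow_left k).eq
  have hi : ∀ i : ℕ, g ^ i * s * (g ^ i)⁻¹ = w ^ i * s := by
    intro i
    induction i with
    | zero => simp
    | succ i ih =>
      rw [pow_succ', show g * g ^ i * s * (g * g ^ i)⁻¹ = g * (g ^ i * s * (g ^ i)⁻¹) * g⁻¹ by group, ih]
      calc g * (w ^ i * s) * g⁻¹ = (g * w ^ i) * s * g⁻¹ := by group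
        _ = w ^ i * (g * s * g⁻¹) := by rw [((show Commute g w from hgw).pow_right i).eq]; group
        _ = w ^ (i + 1) * s := by rw [pow_succ, hw]; group
  have h5 := hi 5
  rw [show g ^ 5 = (E.e ^ 5) ^ k by rw [← pow_mul, ← pow_mul, mul_comm],
    ((show Commute (E.e ^ 5) s from E.pow_five_comm hs).pow_left k).eq, mul_inv_cancel_right,
    show w ^ 5 = w * (w * w) * (w * w) by simp only [pow_succ, pow_zero, one_mul, mul_assoc], F.ufour.sq_one h] at h5
  simp only [mul_one] at h5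
  have h1 : w = 1 := mul_eq_right.1 h5.symm
  rw [hw, mul_inv_eq_one, mul_inv_eq_iff_eq_mul] at h1
  exact h1

/-- The centraliser data of the `E = C₅` case. -/
def pre : F.Pre where
  e := E.e
  e_mem := E.e_mem
  e_norm := E.e_norm
  e_odd := E.odd_e
  e_cen := E.e_cen
  f_comm := E.f_comm
  cover := E.cover
  fpf k hk s hs h := E.fpf (fun h5 => hk ((E.pow_mem_O_iff k).2 h5)) hs h

theorem pre_e : E.pre.e = E.e := rfl

theorem pow_congr {i j : ℕ} (h : i % 5 = j % 5) : (E.e ^ i)⁻¹ * E.e ^ j ∈ F.O := by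
  have e : ∀ n : ℕ, E.e ^ n = E.e ^ (n % 5) * (E.e ^ 5) ^ (n / 5) := fun n => by
    rw [← pow_mul, ← pow_add, Nat.mod_add_div]
  rw [e i, e j, h, mul_inv_rev, mul_assoc, inv_mul_cancel_left]
  exact mul_mem (inv_mem (pow_mem E.e_pow _)) (pow_mem E.e_pow _)

theorem mod_of_pow {i j : ℕ} (h : (E.e ^ i)⁻¹ * E.e ^ j ∈ F.O) : i % 5 = j % 5 := by
  rcases le_total i j with hij | hij
  · obtain ⟨d, rfl⟩ := Nat.exists_eq_add_of_le hij
    rw [pow_add, inv_mul_cancel_left, E.pow_mem_O_iff] at h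
    omega
  · obtain ⟨d, rfl⟩ := Nat.exists_eq_add_of_le hij
    have h' := inv_mem h
    rw [mul_inv_rev, inv_inv, pow_add, inv_mul_cancel_left, E.pow_mem_O_iff] at h'
    omega

/-- The coordinates on `C`. -/
def coord (p : ↥(F.S : Subgroup G) × ZMod 5 × F.O) : F.C :=
  ⟨(p.1 : G) * E.e ^ p.2.1.val * p.2.2,
    mul_mem (mul_mem (F.sylow_le_C p.1.2) (pow_mem E.e_mem _)) (F.O_le_C p.2.2.2)⟩

theorem coord_coe (p : ↥(F.S : Subgroup G) × ZMod 5 × F.O) :
    ((E.coord p : F.C) : G) = (p.1 : G) * E.e ^ p.2.1.val * p.2.2 := rfl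

theorem coord_bijective : Function.Bijective E.coord := by
  constructor
  · rintro ⟨s, k, u⟩ ⟨t, j, v⟩ h
    have h1 : (s : G) * E.e ^ k.val * u = (t : G) * E.e ^ j.val * v := congrArg Subtype.val h
    have hst : (s : G) = t := by
      refine E.pre.S_eq s.2 t.2 ?_
      have e : (t : G)⁻¹ * s = E.e ^ j.val * v * (E.e ^ k.val * u)⁻¹ := by
        rw [eq_mul_inv_iff_mul_eq, mul_assoc, ← mul_assoc (s : G), h1]; group
      rw [e]
      exact mul_mem ⟨j.val, v, v.2, rfl⟩ (inv_mem ⟨k.val, u, u.2, rfl⟩)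
    rw [hst, mul_assoc, mul_assoc, mul_right_inj] at h1
    have hkj : k = j := by
      refine ZMod.val_injective 5 ?_
      have h2 : (E.e ^ k.val)⁻¹ * E.e ^ j.val ∈ F.O := by
        rw [show (E.e ^ k.val)⁻¹ * E.e ^ j.val = (u : G) * (v : G)⁻¹ by
          rw [eq_mul_inv_iff_mul_eq, mul_assoc, ← h1, inv_mul_cancel_left]]
        exact mul_mem u.2 (inv_mem v.2)
      have h3 := E.mod_of_pow h2
      rwa [Nat.mod_eq_of_lt k.val_lt, Nat.mod_eq_of_lt j.val_lt] at h3
    subst hkj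
    rw [mul_right_inj] at h1
    exact Prod.ext (Subtype.ext hst) (Prod.ext rfl (Subtype.ext h1))
  · rintro ⟨c, hc⟩
    obtain ⟨s, hs, k, u, hu, rfl⟩ := E.pre.cover' hc
    have hm : ((k : ZMod 5)).val % 5 = k % 5 := by rw [ZMod.val_natCast, Nat.mod_mod]
    refine ⟨(⟨s, hs⟩, (k : ZMod 5), ⟨_, mul_mem (E.pow_congr hm) hu⟩), Subtype.ext ?_⟩
    show s * E.e ^ (k : ZMod 5).val * ((E.e ^ (k : ZMod 5).val)⁻¹ * E.e ^ k * u) = s * E.e ^ k * u
    group

end Five

end Frame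

end Cfsg.Lib.Lyons
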