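import Cfsg.Agent.Lyons.Frame.UFacts
import Cfsg.Agent.Components.Cores
import Cfsg.Agent.BenderSE.Ring2.Solvable

/-!
The centraliser `C = O ⟨S, e⟩` of `z`; `e = 1` when `E = 1`.  A coset `s O`, `1 ≠ s ∈ S`, consists of conjugates
of products `s v` with `v` in the core of the centraliser of `s`.
-/

set_option autoImplicit false
set_option linter.unusedSectionVars false
set_option linter.style.haveILetI false

namespace Cfsg.Lib.Lyons

open Subgroup Cfsg.Lib.BenderSE.Ring2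

universe u

variable {G : Type u} [Group G] [Finite G]

namespace Frame

variable (F : Frame G)

theorem z_mem_W : F.z ∈ F.W := F.z_mem

theorem z_mem_S : F.z ∈ (F.S : Subgroup G) := F.z_mem.1

theorem z_sq : F.z * F.z = 1 := F.ufour.sq_one F.z_mem

theorem z_inv : F.z⁻¹ = F.z := F.ufour.cen_inv F.z_mem

theorem orderOf_z : orderOf F.z = 2 := orderOf_eq_prime (by rw [pow_two, F.z_sq]) F.z_ne

theorem two_power {s : G} (hs : s ∈ (F.S : Subgroup G)) : ∃ n : ℕ, orderOf s = 2 ^ n := by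
  haveI : Fact (Nat.Prime 2) := ⟨Nat.prime_two⟩
  obtain ⟨n, hn⟩ := IsPGroup.iff_orderOf.1 F.S.2 ⟨s, hs⟩
  exact ⟨n, by rw [← hn, Subgroup.orderOf_mk]⟩

theorem eq_one_of_odd {s : G} (hs : s ∈ (F.S : Subgroup G)) (ho : Odd (orderOf s)) : s = 1 := by
  obtain ⟨n, hn⟩ := F.two_power hs
  rcases n with _ | n
  · rwa [pow_zero, orderOf_eq_one_iff] at hn
  · rw [hn] at ho
    exact absurd ho (Nat.not_odd_iff_even.2 ((even_two.pow_of_ne_zero n.succ_ne_zero)))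

theorem odd_O : Odd (Nat.card F.O) := by
  rw [Frame.O, GW.Core, card_map_of_injective (subtype_injective _)]
  exact BenderSE.Ring2.odd_oddCore

theorem odd_of_mem_O {u : G} (hu : u ∈ F.O) : Odd (orderOf u) :=
  F.odd_O.of_dvd_nat (Subgroup.orderOf_dvd_natCard F.O hu)

theorem mem_C {c : G} : c ∈ F.C ↔ c * F.z = F.z * c := mem_centralizer_singleton_iff

theorem z_comm_O {u : G} (hu : u ∈ F.O) : u * F.z = F.z * u := F.mem_C.1 (F.O_le_C hu)

/-- An odd subgroup normalised by `C` lies in `O`. -/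
theorem le_O {M : Subgroup G} (hM : M ≤ F.C) (hodd : Odd (Nat.card M)) (hn : F.C ≤ normalizer (M : Set G)) :
    M ≤ F.O := by
  haveI : (M.subgroupOf F.C).Normal := (normal_subgroupOf_iff_le_normalizer hM).2 hn
  have h : M.subgroupOf F.C ≤ Cfsg.oddCore F.C := Cfsg.Lib.Components.le_pPrimeCore (Nat.coprime_two_right.2 (by
    rwa [Nat.card_congr (subgroupOfEquivOfLe hM).toEquiv]))
  exact fun x hx => ⟨⟨x, hM hx⟩, h (mem_subgroupOf.2 hx), rfl⟩

theorem conj_mem_S (k : ℕ) {s : G} (hs : s ∈ (F.S : Subgroup G)) : F.f ^ k * s * (F.f ^ k)⁻¹ ∈ (F.S : Subgroup G) :=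
  (mem_normalizer_iff.1 (pow_mem F.f_norm k) s).1 hs

theorem conj_mem_S' (k : ℕ) {s : G} (hs : s ∈ (F.S : Subgroup G)) :
    (F.f ^ k)⁻¹ * s * F.f ^ k ∈ (F.S : Subgroup G) :=
  (mem_normalizer_iff''.1 (pow_mem F.f_norm k) s).1 hs

theorem normalizer_le_normalizer_W :
    normalizer ((F.S : Subgroup G) : Set G) ≤ normalizer (F.W : Set G) := by
  intro g hg
  refine Cfsg.Lib.BenderSE.mem_normalizer_of_maps_to ?_
  intro z hz
  refine mem_cenOf.2 ⟨(mem_normalizer_iff.1 hg z).1 hz.1, fun y hy => ?_⟩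
  have h1 := cenOf_comm hz ((mem_normalizer_iff''.1 hg y).1 hy)
  calc y * (g * z * g⁻¹) = g * (g⁻¹ * y * g * z) * g⁻¹ := by group
    _ = g * (z * (g⁻¹ * y * g)) * g⁻¹ := by rw [h1]
    _ = g * z * g⁻¹ * y := by group

theorem conj_mem_W (k : ℕ) {w : G} (hw : w ∈ F.W) : F.f ^ k * w * (F.f ^ k)⁻¹ ∈ F.W :=
  (mem_normalizer_iff.1 (F.normalizer_le_normalizer_W (pow_mem F.f_norm k)) w).1 hw

theorem conj_mem_W' (k : ℕ) {w : G} (hw : w ∈ F.W) : (F.f ^ k)⁻¹ * w * F.f ^ k ∈ F.W :=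
  (mem_normalizer_iff''.1 (F.normalizer_le_normalizer_W (pow_mem F.f_norm k)) w).1 hw

/-- `f` permutes the three involutions transitively. -/
theorem exists_pow_conj {w : G} (hw : w ∈ F.W) (hw1 : w ≠ 1) : ∃ k : ℕ, F.f ^ k * F.z * (F.f ^ k)⁻¹ = w := by
  classical
  set c : ℕ → G := fun k => F.f ^ k * F.z * (F.f ^ k)⁻¹ with hc
  have hf1 : c 1 ≠ c 0 := by simpa [hc] using F.f_moves
  have hf2 : c 2 ≠ c 0 := by
    intro e
    refine F.f_moves ?_
    have h2 : F.f ^ 2 ∈ F.C := F.mem_C.2 (mul_inv_eq_iff_eq_mul.1 (by simpa [hc] using e))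
    obtain ⟨m, hm⟩ := F.f_odd
    have : F.f ∈ F.C := by
      have e2 : F.f = (F.f ^ 2) ^ (m + 1) := by
        rw [← pow_mul, show 2 * (m + 1) = orderOf F.f + 1 by omega, pow_succ, pow_orderOf_eq_one, one_mul]
      rw [e2]; exact pow_mem h2 _
    exact mul_inv_eq_iff_eq_mul.2 (F.mem_C.1 this)
  have hinj : ∀ a b, c a = c b → c (a + 1) = c (b + 1) := fun a b e => by
    simp only [hc, pow_succ'] at e ⊢
    rw [show F.f * F.f ^ a * F.z * (F.f * F.f ^ a)⁻¹ = F.f * (F.f ^ a * F.z * (F.f ^ a)⁻¹) * F.f⁻¹ by group, e]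
    group
  have h12 : c 2 ≠ c 1 := fun e => hf1 (by
    simp only [hc, pow_succ', pow_zero, mul_one, one_mul, inv_one] at e ⊢
    have e' := congrArg (fun x => F.f⁻¹ * x * F.f) e
    simpa [mul_assoc] using e')
  have hne : ∀ k, c k ≠ 1 := fun k e => F.z_ne (by
    have e' := congrArg (fun x => (F.f ^ k)⁻¹ * x * F.f ^ k) e
    simpa [hc, mul_assoc] using e')
  let S4 : Finset G := {1, c 0, c 1, c 2}
  have hsub : (↑S4 : Set G) ⊆ (F.W : Set G) := by
    intro x hx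
    simp only [S4, Finset.coe_insert, Finset.coe_singleton, Set.mem_insert_iff, Set.mem_singleton_iff] at hx
    rcases hx with rfl | rfl | rfl | rfl
    · exact one_mem _
    all_goals exact F.conj_mem_W _ F.z_mem_W
  have hcard : S4.card = 4 := by
    simp only [S4]
    rw [Finset.card_insert_of_notMem (by simp [(hne 0).symm, (hne 1).symm, (hne 2).symm]),
      Finset.card_insert_of_notMem (by simp [hf1.symm, hf2.symm]),
      Finset.card_insert_of_notMem (by simp [h12.symm]), Finset.card_singleton]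
  have heq : (↑S4 : Set G) = (F.W : Set G) := Set.eq_of_subset_of_ncard_le hsub (by
    rw [Set.ncard_coe_finset, hcard, ← Nat.card_coe_set_eq]
    exact le_of_eq F.ufour.card_cen) (Set.toFinite _)
  have hwm : w ∈ S4 := Finset.mem_coe.1 (heq ▸ hw)
  simp only [S4, Finset.mem_insert, Finset.mem_singleton] at hwm
  rcases hwm with h | h | h | h
  · exact absurd h hw1
  · exact ⟨0, h.symm⟩
  · exact ⟨1, h.symm⟩
  · exact ⟨2, h.symm⟩

theorem mem_D {d : G} : d ∈ F.D ↔ d ∈ F.O ∧ ∀ w ∈ F.W, w * d = d * w :=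
  Iff.rfl.trans (and_congr_right fun _ => mem_centralizer_iff)

/-- The centraliser of `z` as `O ⟨S, e⟩`. -/
structure Pre where
  e : G
  e_mem : e ∈ F.C
  e_norm : e ∈ normalizer ((F.S : Subgroup G) : Set G)
  e_odd : Odd (orderOf e)
  e_cen : ∀ w ∈ F.W, e * w = w * e
  f_comm : e * F.f = F.f * e
  cover : ∀ c ∈ F.C, ∃ o ∈ F.O, ∃ s ∈ (F.S : Subgroup G), ∃ k : ℕ, c = o * s * e ^ k
  fpf : ∀ k : ℕ, e ^ k ∉ F.O → ∀ s ∈ (F.S : Subgroup G),
    e ^ k * s * (e ^ k)⁻¹ * s⁻¹ ∈ F.W → s ∈ F.W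

/-- The `E = 1` case. -/
def One.pre {F : Frame G} (E : F.One) : F.Pre where
  e := 1
  e_mem := one_mem _
  e_norm := one_mem _
  e_odd := by simp
  e_cen w _ := by simp
  f_comm := by simp
  cover c hc := by
    obtain ⟨o, ho, s, hs, rfl⟩ := E.cover c hc
    exact ⟨o, ho, s, hs, 0, by simp⟩
  fpf k hk := absurd (by rw [one_pow]; exact one_mem _) hk

namespace Pre

variable {F} (P : F.Pre)
include P

theorem pow_mem_C (k : ℕ) : P.e ^ k ∈ F.C := pow_mem P.e_mem k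

theorem conj_S (k : ℕ) {s : G} (hs : s ∈ (F.S : Subgroup G)) : P.e ^ k * s * (P.e ^ k)⁻¹ ∈ (F.S : Subgroup G) :=
  (mem_normalizer_iff.1 (pow_mem P.e_norm k) s).1 hs

theorem conj_S' (k : ℕ) {s : G} (hs : s ∈ (F.S : Subgroup G)) : (P.e ^ k)⁻¹ * s * P.e ^ k ∈ (F.S : Subgroup G) :=
  (mem_normalizer_iff''.1 (pow_mem P.e_norm k) s).1 hs

theorem pow_cen (k : ℕ) {w : G} (hw : w ∈ F.W) : P.e ^ k * w = w * P.e ^ k :=
  ((show Commute P.e w from P.e_cen w hw).pow_left k).eq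

theorem pow_f (k j : ℕ) : P.e ^ k * F.f ^ j = F.f ^ j * P.e ^ k :=
  ((show Commute P.e F.f from P.f_comm).pow_pow k j).eq

theorem inv_eq_pow (k : ℕ) : ∃ j : ℕ, (P.e ^ k)⁻¹ = P.e ^ j := by
  refine ⟨k * (orderOf P.e - 1), inv_eq_of_mul_eq_one_right ?_⟩
  have h1 : 0 < orderOf P.e := orderOf_pos _
  rw [← pow_add, show k + k * (orderOf P.e - 1) = orderOf P.e * k by
    obtain ⟨n, hn⟩ : ∃ n, orderOf P.e = n + 1 := ⟨_, (Nat.succ_pred_eq_of_pos h1).symm⟩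
    rw [hn, Nat.add_sub_cancel]; ring, pow_mul, pow_orderOf_eq_one, one_pow]

/-- The subgroup `O ⟨e⟩`. -/
def K : Subgroup G where
  carrier := {c | ∃ k : ℕ, ∃ u ∈ F.O, c = P.e ^ k * u}
  mul_mem' := by
    rintro _ _ ⟨k, u, hu, rfl⟩ ⟨j, v, hv, rfl⟩
    refine ⟨k + j, ((P.e ^ j)⁻¹ * u * (P.e ^ j)⁻¹⁻¹) * v,
      mul_mem (F.conj_mem_O (inv_mem (P.pow_mem_C j)) hu) hv, ?_⟩
    rw [pow_add, inv_inv]; group
  one_mem' := ⟨0, 1, one_mem _, by simp⟩
  inv_mem' := by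
    rintro _ ⟨k, u, hu, rfl⟩
    obtain ⟨j, hj⟩ := P.inv_eq_pow k
    refine ⟨j, P.e ^ k * u⁻¹ * (P.e ^ k)⁻¹, F.conj_mem_O (P.pow_mem_C k) (inv_mem hu), ?_⟩
    rw [mul_inv_rev, ← hj]; group

theorem mem_K {c : G} : c ∈ P.K ↔ ∃ k : ℕ, ∃ u ∈ F.O, c = P.e ^ k * u := Iff.rfl

theorem O_le_K : F.O ≤ P.K := fun u hu => ⟨0, u, hu, by simp⟩

theorem pow_mem_K (k : ℕ) : P.e ^ k ∈ P.K := ⟨k, 1, one_mem _, by simp⟩

theorem K_le_C : P.K ≤ F.C := by
  rintro _ ⟨k, u, hu, rfl⟩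
  exact mul_mem (P.pow_mem_C k) (F.O_le_C hu)

theorem K_conj {c x : G} (hc : ∀ k : ℕ, c * P.e ^ k * c⁻¹ * (P.e ^ k)⁻¹ ∈ F.O) (hcC : c ∈ F.C) (hx : x ∈ P.K) :
    c * x * c⁻¹ * x⁻¹ ∈ F.O := by
  obtain ⟨k, u, hu, rfl⟩ := hx
  have h1 := mul_mem (F.conj_mem_O hcC hu) (inv_mem hu)
  have h2 := mul_mem (hc k) (F.conj_mem_O (P.pow_mem_C k) h1)
  refine (show c * (P.e ^ k * u) * c⁻¹ * (P.e ^ k * u)⁻¹ = _ from ?_) ▸ h2
  group

theorem w_K {w x : G} (hw : w ∈ F.W) (hx : x ∈ P.K) : w * x * w⁻¹ * x⁻¹ ∈ F.O := by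
  refine P.K_conj (fun k => ?_) (F.sylow_le_C hw.1) hx
  rw [← P.pow_cen k hw, mul_inv_cancel_right, mul_inv_cancel]
  exact one_mem _

theorem K_K {c x : G} (hc : c ∈ P.K) (hx : x ∈ P.K) : c * x * c⁻¹ * x⁻¹ ∈ F.O := by
  refine P.K_conj (fun k => ?_) (P.K_le_C hc) hx
  obtain ⟨j, u, hu, rfl⟩ := hc
  have h : P.e ^ j * (u * (P.e ^ k * u⁻¹ * (P.e ^ k)⁻¹)) * (P.e ^ j)⁻¹ ∈ F.O :=
    F.conj_mem_O (P.pow_mem_C j) (mul_mem hu (F.conj_mem_O (P.pow_mem_C k) (inv_mem hu)))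
  refine (show P.e ^ j * u * P.e ^ k * (P.e ^ j * u)⁻¹ * (P.e ^ k)⁻¹ = _ from ?_) ▸ h
  have e : (P.e ^ j)⁻¹ * (P.e ^ k)⁻¹ = (P.e ^ k)⁻¹ * (P.e ^ j)⁻¹ := by
    rw [← mul_inv_rev, ← mul_inv_rev, ← pow_add, ← pow_add, add_comm]
  calc P.e ^ j * u * P.e ^ k * (P.e ^ j * u)⁻¹ * (P.e ^ k)⁻¹
      = P.e ^ j * u * P.e ^ k * u⁻¹ * ((P.e ^ j)⁻¹ * (P.e ^ k)⁻¹) := by group
    _ = _ := by rw [e]; group

theorem odd_of_mem_K {x : G} (hx : x ∈ P.K) : Odd (orderOf x) := by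
  obtain ⟨k, u, hu, rfl⟩ := hx
  set n := orderOf P.e
  have h : ∀ i : ℕ, ∃ v ∈ F.O, (P.e ^ k * u) ^ i = P.e ^ (k * i) * v := by
    intro i
    induction i with
    | zero => exact ⟨1, one_mem _, by simp⟩
    | succ i ih =>
      obtain ⟨v, hv, hi⟩ := ih
      refine ⟨((P.e ^ k)⁻¹ * v * (P.e ^ k)⁻¹⁻¹) * u,
        mul_mem (F.conj_mem_O (inv_mem (P.pow_mem_C k)) hv) hu, ?_⟩
      rw [pow_succ, hi, inv_inv, show k * (i + 1) = k * i + k by ring, pow_add]; group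
  obtain ⟨v, hv, hn⟩ := h n
  rw [mul_comm k n, pow_mul, pow_orderOf_eq_one, one_pow, one_mul] at hn
  have h1 : orderOf (P.e ^ k * u) ∣ n * orderOf v := orderOf_dvd_of_pow_eq_one (by
    rw [pow_mul, hn, pow_orderOf_eq_one])
  exact (P.e_odd.mul (F.odd_of_mem_O hv)).of_dvd_nat h1

theorem odd_K : Odd (Nat.card P.K) := by
  rw [← Nat.not_even_iff_odd]
  intro h
  haveI : Fact (Nat.Prime 2) := ⟨Nat.prime_two⟩
  obtain ⟨x, hx⟩ := exists_prime_orderOf_dvd_card' 2 (even_iff_two_dvd.1 h)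
  have := P.odd_of_mem_K x.2
  rw [Subgroup.orderOf_coe, hx] at this
  exact Nat.not_even_iff_odd.2 this even_two

theorem eq_one_of_S_K {s : G} (hs : s ∈ (F.S : Subgroup G)) (hK : s ∈ P.K) : s = 1 :=
  F.eq_one_of_odd hs (P.odd_of_mem_K hK)

theorem cover' {c : G} (hc : c ∈ F.C) :
    ∃ s ∈ (F.S : Subgroup G), ∃ k : ℕ, ∃ u ∈ F.O, c = s * P.e ^ k * u := by
  obtain ⟨o, ho, s, hs, k, rfl⟩ := P.cover c hc
  refine ⟨s, hs, k, (s * P.e ^ k)⁻¹ * o * (s * P.e ^ k)⁻¹⁻¹,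
    F.conj_mem_O (inv_mem (mul_mem (F.sylow_le_C hs) (P.pow_mem_C k))) ho, ?_⟩
  rw [inv_inv]; group

/-- An element of `S` determined by a coset of `O ⟨e⟩`. -/
theorem S_eq {s t : G} (hs : s ∈ (F.S : Subgroup G)) (ht : t ∈ (F.S : Subgroup G)) (h : t⁻¹ * s ∈ P.K) : s = t :=
  (inv_mul_eq_one.1 (P.eq_one_of_S_K (mul_mem (inv_mem ht) hs) h)).symm

/-- `S O` is normal in `C`. -/
theorem conj_SO {c s : G} (hc : c ∈ F.C) (hs : s ∈ (F.S : Subgroup G)) :
    ∃ t ∈ (F.S : Subgroup G), t⁻¹ * (c * s * c⁻¹) ∈ F.O := by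
  obtain ⟨r, hr, k, u, hu, rfl⟩ := P.cover' hc
  set g := r * P.e ^ k with hg
  refine ⟨g * s * g⁻¹, ?_, ?_⟩
  · rw [hg, show r * P.e ^ k * s * (r * P.e ^ k)⁻¹ = r * (P.e ^ k * s * (P.e ^ k)⁻¹) * r⁻¹ by group]
    exact mul_mem (mul_mem hr (P.conj_S k hs)) (inv_mem hr)
  · have h1 : s⁻¹ * u * s⁻¹⁻¹ * u⁻¹ ∈ F.O :=
      mul_mem (F.conj_mem_O (inv_mem (F.sylow_le_C hs)) hu) (inv_mem hu)
    have h2 := F.conj_mem_O (show g ∈ F.C from mul_mem (F.sylow_le_C hr) (P.pow_mem_C k)) h1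
    refine (show (g * s * g⁻¹)⁻¹ * (g * u * s * (g * u)⁻¹) = _ from ?_) ▸ h2
    group

/-- An odd element of `C` commuting with `S` modulo `O` lies in `O`. -/
theorem mem_O_of_comm {m : G} (hm : m ∈ F.C) (hodd : Odd (orderOf m))
    (h : ∀ s ∈ (F.S : Subgroup G), m * s * m⁻¹ * s⁻¹ ∈ F.O) : m ∈ F.O := by
  obtain ⟨r, hr, k, u, hu, rfl⟩ := P.cover' hm
  by_cases hk : P.e ^ k ∈ F.O
  · -- `m = r v` of odd order
    set v := P.e ^ k * u with hv
    have hvO : v ∈ F.O := mul_mem hk hu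
    have hi : ∀ i : ℕ, ∃ v' ∈ F.O, (r * v) ^ i = r ^ i * v' := by
      intro i
      induction i with
      | zero => exact ⟨1, one_mem _, by simp⟩
      | succ i ih =>
        obtain ⟨v', hv', hi⟩ := ih
        refine ⟨(r⁻¹ * v' * r⁻¹⁻¹) * v, mul_mem (F.conj_mem_O (inv_mem (F.sylow_le_C hr)) hv') hvO, ?_⟩
        rw [pow_succ, hi, pow_succ, inv_inv]; group
    rw [mul_assoc, ← hv] at hodd ⊢
    obtain ⟨v', hv', hn⟩ := hi (orderOf (r * v))
    rw [pow_orderOf_eq_one] at hn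
    have h1 : r ^ orderOf (r * v) = 1 := by
      refine P.eq_one_of_S_K (pow_mem hr _) (P.O_le_K ?_)
      rw [eq_inv_of_mul_eq_one_left hn.symm]; exact inv_mem hv'
    rw [F.eq_one_of_odd hr (hodd.of_dvd_nat (orderOf_dvd_of_pow_eq_one h1)), one_mul]
    exact hvO
  · exfalso
    obtain ⟨s, hs, hsW⟩ : ∃ s ∈ (F.S : Subgroup G), s ∉ F.W := by
      by_contra hcon
      push Not at hcon
      have := Subgroup.card_le_of_le hcon
      rw [F.ufour.card_all] at this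
      rw [show Nat.card F.W = 4 from F.ufour.card_cen] at this
      omega
    refine hsW (P.fpf k hk s hs ?_)
    have h1 := h s hs
    set g := P.e ^ k with hg
    have hgs : g * s * g⁻¹ ∈ (F.S : Subgroup G) := P.conj_S k hs
    set t := g * s * g⁻¹ with ht
    -- `r t r⁻¹ ≡ s`
    have h2 : s⁻¹ * (r * t * r⁻¹) ∈ F.O := by
      have hsc : s⁻¹ * u * s⁻¹⁻¹ * u⁻¹ ∈ F.O :=
        mul_mem (F.conj_mem_O (inv_mem (F.sylow_le_C hs)) hu) (inv_mem hu)
      have h3 := mul_mem (F.conj_mem_O (inv_mem (F.sylow_le_C hs)) h1)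
        (inv_mem (F.conj_mem_O (show r * g ∈ F.C from mul_mem (F.sylow_le_C hr) (P.pow_mem_C k)) hsc))
      refine (show s⁻¹ * (r * t * r⁻¹) = _ from ?_) ▸ h3
      rw [ht]; group
    have h4 : r * t * r⁻¹ = s := P.S_eq (mul_mem (mul_mem hr hgs) (inv_mem hr)) hs (P.O_le_K h2)
    rw [show t * s⁻¹ = (r * t * r⁻¹ * t⁻¹)⁻¹ * ((r * t * r⁻¹) * s⁻¹) by group, h4, mul_inv_cancel, mul_one]
    exact inv_mem (h4 ▸ F.ufour.comm_cen hr hgs)

/-- `f` normalises `D`. -/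
theorem conj_D (j : ℕ) {d : G} (hd : d ∈ F.D) : F.f ^ j * d * (F.f ^ j)⁻¹ ∈ F.D := by
  obtain ⟨hdO, hdW⟩ := F.mem_D.1 hd
  set g := F.f ^ j with hg
  set m := g * d * g⁻¹ with hm
  have hmW : ∀ w ∈ F.W, w * m = m * w := by
    intro w hw
    have h := hdW _ (F.conj_mem_W' j hw)
    calc w * m = g * (g⁻¹ * w * g * d) * g⁻¹ := by rw [hm]; group
      _ = g * (d * (g⁻¹ * w * g)) * g⁻¹ := by rw [h]
      _ = m * w := by rw [hm]; group
  refine F.mem_D.2 ⟨P.mem_O_of_comm (F.mem_C.2 (hmW _ F.z_mem_W).symm) ?_ fun s hs => ?_, hmW⟩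
  · rw [show m = MulAut.conj g d from rfl, MulEquiv.orderOf_eq]; exact F.odd_of_mem_O hdO
  · set t := g⁻¹ * s * g
    have htS : t ∈ (F.S : Subgroup G) := F.conj_mem_S' j hs
    have htW : ∀ w ∈ F.W, w * t = t * w := fun w hw => (cenOf_comm hw htS).symm
    -- the commutator is the conjugate of one in `D`
    have hd' : d * t * d⁻¹ * t⁻¹ ∈ F.D := by
      refine F.mem_D.2 ⟨?_, fun w hw => ?_⟩
      · rw [show d * t * d⁻¹ * t⁻¹ = d * (t * d⁻¹ * t⁻¹) by group]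
        exact mul_mem hdO (F.conj_mem_O (F.sylow_le_C htS) (inv_mem hdO))
      · have hc : Commute w (d * t * d⁻¹ * t⁻¹) :=
          (((show Commute w d from hdW w hw).mul_right (htW w hw)).mul_right
            (show Commute w d from hdW w hw).inv_right).mul_right (show Commute w t from htW w hw).inv_right
        exact hc.eq
    -- it is an element of odd order of `C`
    obtain ⟨t', ht', hO'⟩ := P.conj_SO (c := m) (F.mem_C.2 (hmW _ F.z_mem_W).symm) hs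
    set x := m * s * m⁻¹ * s⁻¹
    have hx : x = g * (d * t * d⁻¹ * t⁻¹) * g⁻¹ := by simp only [x, hm, t]; group
    have hxodd : Odd (orderOf x) := by
      rw [hx, show g * (d * t * d⁻¹ * t⁻¹) * g⁻¹ = MulAut.conj g (d * t * d⁻¹ * t⁻¹) from rfl,
        MulEquiv.orderOf_eq]
      exact F.odd_of_mem_O hd'.1
    -- and lies in `S O`
    have hxSO : (t' * s⁻¹)⁻¹ * x ∈ F.O := by
      rw [show (t' * s⁻¹)⁻¹ * x = s * (t'⁻¹ * (m * s * m⁻¹)) * s⁻¹ by simp only [x]; group]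
      exact F.conj_mem_O (F.sylow_le_C hs) hO'
    set r := t' * s⁻¹ with hr'
    have hr : r ∈ (F.S : Subgroup G) := mul_mem ht' (inv_mem hs)
    set o := r⁻¹ * x
    have hi : ∀ i : ℕ, ∃ v' ∈ F.O, (r * o) ^ i = r ^ i * v' := by
      intro i
      induction i with
      | zero => exact ⟨1, one_mem _, by simp⟩
      | succ i ih =>
        obtain ⟨v', hv', hi⟩ := ih
        refine ⟨(r⁻¹ * v' * r⁻¹⁻¹) * o, mul_mem (F.conj_mem_O (inv_mem (F.sylow_le_C hr)) hv') hxSO, ?_⟩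
        rw [pow_succ, hi, pow_succ, inv_inv]; group
    have hxe : r * o = x := mul_inv_cancel_left r x
    obtain ⟨v', hv', hn⟩ := hi (orderOf x)
    rw [hxe, pow_orderOf_eq_one] at hn
    have h1 : r ^ orderOf x = 1 := by
      refine P.eq_one_of_S_K (pow_mem hr _) (P.O_le_K ?_)
      rw [eq_inv_of_mul_eq_one_left hn.symm]; exact inv_mem hv'
    rw [← hxe, F.eq_one_of_odd hr (hxodd.of_dvd_nat (orderOf_dvd_of_pow_eq_one h1)), one_mul]
    exact hxSO

theorem conj_D' (j : ℕ) {d : G} (hd : d ∈ F.D) : (F.f ^ j)⁻¹ * d * F.f ^ j ∈ F.D := by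
  obtain ⟨n, hn⟩ : ∃ n : ℕ, (F.f ^ j)⁻¹ = F.f ^ n := by
    have hm : (F.f ^ j)⁻¹ ∈ Submonoid.powers F.f := by
      rw [mem_powers_iff_mem_zpowers]
      exact inv_mem (pow_mem (mem_zpowers _) j)
    obtain ⟨n, hn⟩ := hm
    exact ⟨n, hn.symm⟩
  have h := P.conj_D n hd
  rwa [← hn, inv_inv] at h

/-- A coset of `O` by an involution of `W`, times a power of `e`, is conjugate into `z e^k D`. -/
theorem conj_W_coset {w : G} (hw : w ∈ F.W) (hw1 : w ≠ 1) (k : ℕ) {u : G} (hu : u ∈ F.O) :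
    ∃ v ∈ F.O, IsConj (w * (P.e ^ k * u)) (F.z * (P.e ^ k * v)) := by
  by_cases hwz : w = F.z
  · exact ⟨u, hu, hwz ▸ IsConj.refl _⟩
  have hy : P.e ^ k * u ∈ P.K := mul_mem (P.pow_mem_K k) (P.O_le_K hu)
  have hnK : ∀ x ∈ P.K, w * x * w⁻¹ ∈ P.K := fun x hx => by
    rw [show w * x * w⁻¹ = (w * x * w⁻¹ * x⁻¹) * x by group]
    exact mul_mem (P.O_le_K (P.w_K hw hx)) hx
  obtain ⟨t, ht, v, hv, hc, he⟩ := exists_coset_conj P.K P.odd_K (F.two_power hw.1) hnK hy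
  set y := P.e ^ k * u
  have hvy : v * y⁻¹ ∈ F.O := by
    have h1 : y * v⁻¹ ∈ F.O := by
      have h2 : y = (w⁻¹ * t * w⁻¹⁻¹ * t⁻¹) * (t * v * t⁻¹ * v⁻¹) * v := by
        rw [← mul_right_inj w, he, inv_inv]; group
      rw [h2, mul_inv_cancel_right]
      exact mul_mem (P.w_K (inv_mem hw) ht) (P.K_K ht hv)
    have := inv_mem h1
    rwa [mul_inv_rev, inv_inv] at this
  set d := (P.e ^ k)⁻¹ * v with hd
  have hdO : d ∈ F.O := by
    have h := mul_mem (F.conj_mem_O (inv_mem (P.pow_mem_C k)) hvy) hu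
    refine (show d = _ from ?_) ▸ h
    simp only [hd, y, inv_inv]; group
  have hdw : Commute w d :=
    (show Commute w (P.e ^ k) from (P.pow_cen k hw).symm).inv_right.mul_right hc
  have hdz : Commute F.z d := (F.z_comm_O hdO).symm
  have hdD : d ∈ F.D := by
    refine F.mem_D.2 ⟨hdO, fun a ha => ?_⟩
    -- `W = ⟨z, w⟩`
    have hzw : F.z * w ∈ F.W := mul_mem F.z_mem_W hw
    classical
    let T : Finset G := {1, F.z, w, F.z * w}
    have hTc : T.card = 4 := by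
      have h3 : F.z * w ≠ 1 := fun e => hwz (by rw [eq_inv_of_mul_eq_one_right e, F.z_inv])
      simp only [T]
      rw [Finset.card_insert_of_notMem (by simp [F.z_ne.symm, hw1.symm, h3.symm]),
        Finset.card_insert_of_notMem (by simp [Ne.symm hwz, hw1]),
        Finset.card_insert_of_notMem (by simp [F.z_ne]), Finset.card_singleton]
    have hTW : (↑T : Set G) = (F.W : Set G) := Set.eq_of_subset_of_ncard_le (by
        intro x hx
        simp only [T, Finset.coe_insert, Finset.coe_singleton, Set.mem_insert_iff, Set.mem_singleton_iff] at hx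
        rcases hx with rfl | rfl | rfl | rfl
        exacts [one_mem _, F.z_mem_W, hw, hzw])
      (by rw [Set.ncard_coe_finset, hTc, ← Nat.card_coe_set_eq]; exact le_of_eq F.ufour.card_cen) (Set.toFinite _)
    have haT : a ∈ T := Finset.mem_coe.1 (hTW ▸ ha)
    simp only [T, Finset.mem_insert, Finset.mem_singleton] at haT
    rcases haT with rfl | rfl | rfl | rfl
    exacts [(Commute.one_left d).eq, hdz.eq, hdw.eq, (hdz.mul_left hdw).eq]
  obtain ⟨j, rfl⟩ := F.exists_pow_conj hw hw1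
  refine ⟨_, (P.conj_D' j hdD).1, isConj_iff.2 ⟨(t * F.f ^ j)⁻¹, ?_⟩⟩
  rw [he, show v = P.e ^ k * d from (mul_inv_cancel_left _ _).symm]
  calc _ = F.z * ((F.f ^ j)⁻¹ * P.e ^ k * d * F.f ^ j) := by group
    _ = _ := by
      congr 1
      have h := P.pow_f k j
      calc (F.f ^ j)⁻¹ * P.e ^ k * d * F.f ^ j
          = (F.f ^ j)⁻¹ * (P.e ^ k * F.f ^ j) * ((F.f ^ j)⁻¹ * d * F.f ^ j) := by group
        _ = _ := by rw [h]; group

/-- A coset of `O` by an element of order four is conjugate into `a O`, `a² = z`, centralising `a`. -/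
theorem conj_quad_coset {s : G} (hs : s ∈ (F.S : Subgroup G)) (hsW : s ∉ F.W) {u : G} (hu : u ∈ F.O) :
    ∃ a ∈ (F.S : Subgroup G), a ∉ F.W ∧ a * a = F.z ∧ IsConj s a ∧
      ∃ v ∈ F.O, v * a = a * v ∧ IsConj (s * u) (a * v) := by
  obtain ⟨t, ht, v, hv, hc, he⟩ := exists_coset_conj F.O F.odd_O (F.two_power hs)
    (fun x hx => F.conj_mem_O (F.sylow_le_C hs) hx) hu
  have hs2 : s * s ∈ F.W := F.ufour.sq_cen s hs
  have hs21 : s * s ≠ 1 := fun e => hsW ((F.ufour.cen_iff s hs).1 e)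
  obtain ⟨j, hj⟩ := F.exists_pow_conj hs2 hs21
  set g := F.f ^ j with hg
  set a := g⁻¹ * s * g with ha
  have haW : a ∉ F.W := fun h => hsW (by
    have h2 := F.conj_mem_W j h
    rwa [← hg, show g * a * g⁻¹ = s by rw [ha]; group] at h2)
  have ha2 : a * a = F.z := by
    rw [ha, show g⁻¹ * s * g * (g⁻¹ * s * g) = g⁻¹ * (s * s) * g by group, ← hj]; group
  have hsa : IsConj s a := isConj_iff.2 ⟨g⁻¹, by rw [ha, inv_inv]⟩
  refine ⟨a, F.conj_mem_S' j hs, haW, ha2, hsa, ?_⟩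
  by_cases hs2z : s * s = F.z
  · -- no conjugation is needed
    have hgz : g * F.z * g⁻¹ = F.z := hj.trans hs2z
    have hgC : g ∈ F.C := F.mem_C.2 (mul_inv_eq_iff_eq_mul.1 hgz)
    refine ⟨g⁻¹ * v * g⁻¹⁻¹, F.conj_mem_O (inv_mem hgC) hv, ?_, isConj_iff.2 ⟨(t * g)⁻¹, ?_⟩⟩
    · calc g⁻¹ * v * g⁻¹⁻¹ * a = g⁻¹ * (v * s) * g := by rw [ha]; group
        _ = g⁻¹ * (s * v) * g := by rw [hc.eq]
        _ = _ := by rw [ha]; group
    · rw [he, ha]; group
  · have hvw : Commute (s * s) v := hc.mul_left hc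
    have hvz : Commute F.z v := (F.z_comm_O hv).symm
    have hvD : v ∈ F.D := by
      refine F.mem_D.2 ⟨hv, fun w hw => ?_⟩
      have hzw : F.z * (s * s) ∈ F.W := mul_mem F.z_mem_W hs2
      classical
      let T : Finset G := {1, F.z, s * s, F.z * (s * s)}
      have hTc : T.card = 4 := by
        have h3 : F.z * (s * s) ≠ 1 := fun e => hs2z (by rw [eq_inv_of_mul_eq_one_right e, F.z_inv])
        simp only [T]
        rw [Finset.card_insert_of_notMem (by simp [F.z_ne.symm, hs21.symm, h3.symm]),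
          Finset.card_insert_of_notMem (by simp [Ne.symm hs2z, hs21]),
          Finset.card_insert_of_notMem (by simp [F.z_ne]), Finset.card_singleton]
      have hTW : (↑T : Set G) = (F.W : Set G) := Set.eq_of_subset_of_ncard_le (by
          intro x hx
          simp only [T, Finset.coe_insert, Finset.coe_singleton, Set.mem_insert_iff, Set.mem_singleton_iff] at hx
          rcases hx with rfl | rfl | rfl | rfl
          exacts [one_mem _, F.z_mem_W, hs2, hzw])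
        (by rw [Set.ncard_coe_finset, hTc, ← Nat.card_coe_set_eq]; exact le_of_eq F.ufour.card_cen)
        (Set.toFinite _)
      have haT : w ∈ T := Finset.mem_coe.1 (hTW ▸ hw)
      simp only [T, Finset.mem_insert, Finset.mem_singleton] at haT
      rcases haT with rfl | rfl | rfl | rfl
      exacts [(Commute.one_left v).eq, hvz.eq, hvw.eq, (hvz.mul_left hvw).eq]
    refine ⟨g⁻¹ * v * g, (P.conj_D' j hvD).1, ?_, isConj_iff.2 ⟨(t * g)⁻¹, ?_⟩⟩
    · calc g⁻¹ * v * g * a = g⁻¹ * (v * s) * g := by rw [ha]; group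
        _ = g⁻¹ * (s * v) * g := by rw [hc.eq]
        _ = _ := by rw [ha]; group
    · rw [he, ha]; group

end Pre

end Frame

end Cfsg.Lib.Lyons
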