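import Cfsg.Agent.Lyons.Local.UFour
import Cfsg.Agent.BenderSE.Ring2.Semifree
import Cfsg.Agent.Blocks.PPart

/-!
A 2-group of type `U₃(4)`, and cosets `s K` of an odd subgroup normalised by a 2-element `s`.
-/

set_option autoImplicit false
set_option linter.unusedSectionVars false
set_option linter.style.haveILetI false

namespace Cfsg.Lib.Lyons

open Subgroup Cfsg.Lib.BenderSE.Ring2

universe u

variable {G : Type u} [Group G]

namespace UFour

variable {R : Subgroup G} (h : UFour R)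
include h

theorem sq_one {w : G} (hw : w ∈ cenOf R) : w * w = 1 := h.cen_sq hw

variable [Finite G]

/-- Every element of the centre is a commutator with a given non-central element. -/
theorem exists_comm {s w : G} (hs : s ∈ R) (hsW : s ∉ cenOf R) (hw : w ∈ cenOf R) :
    ∃ t ∈ R, t * s * t⁻¹ = w * s := h.exists_conj_eq_mul hs hsW hw

end UFour

variable [Finite G]

/-- The coset of a 2-element by an odd subgroup it normalises is covered by the conjugates of the products
with fixed points. -/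
theorem exists_coset_conj (K : Subgroup G) (hK : Odd (Nat.card K)) {s : G} (hs : ∃ n : ℕ, orderOf s = 2 ^ n)
    (hn : ∀ u ∈ K, s * u * s⁻¹ ∈ K) {u : G} (hu : u ∈ K) :
    ∃ t ∈ K, ∃ v ∈ K, Commute s v ∧ s * u = t * (s * v) * t⁻¹ := by
  classical
  set V : Subgroup G := K ⊓ centralizer {s}
  have hn' : ∀ t ∈ K, s⁻¹ * t * s ∈ K := by
    intro t ht
    have hinj : Function.Injective (fun x : K => (⟨s * (x : G) * s⁻¹, hn x x.2⟩ : K)) := fun a b e =>
      Subtype.ext (mul_left_cancel (mul_right_cancel (congrArg Subtype.val e)))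
    obtain ⟨x, hx⟩ := (Finite.injective_iff_surjective.1 hinj) ⟨t, ht⟩
    have e : s * (x : G) * s⁻¹ = t := congrArg Subtype.val hx
    rw [← e]
    simpa [mul_assoc] using x.2
  let Φ : K × V → K := fun p => ⟨s⁻¹ * ((p.1 : G) * (s * p.2) * (p.1 : G)⁻¹), by
    rw [show s⁻¹ * ((p.1 : G) * (s * p.2) * (p.1 : G)⁻¹) = (s⁻¹ * p.1 * s) * p.2 * (p.1 : G)⁻¹ by group]
    exact mul_mem (mul_mem (hn' _ p.1.2) p.2.2.1) (inv_mem p.1.2)⟩
  have hodd : ∀ v ∈ K, ¬ 2 ∣ orderOf v := fun v hv h2 =>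
    Nat.not_even_iff_odd.2 hK (even_iff_two_dvd.2 (h2.trans (by
      rw [← orderOf_mk (H := K) v hv]; exact orderOf_dvd_natCard _)))
  have hpart : ∀ v : V, Cfsg.IsPPart 2 (s * (v : G)) s := fun v =>
    Blocks.isPPart_mul (mem_centralizer_singleton_iff.1 v.2.2).symm hs (hodd _ v.2.1)
  letI := Fintype.ofFinite K
  letI := Fintype.ofFinite V
  have hfib : ∀ y : K, (Finset.univ.filter fun p => Φ p = y).card ≤ Fintype.card V := by
    intro y
    rcases (Finset.univ.filter fun p => Φ p = y).eq_empty_or_nonempty with h0 | ⟨p₀, hp₀⟩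
    · rw [h0, Finset.card_empty]; exact Nat.zero_le _
    have hmem : ∀ p ∈ Finset.univ.filter (fun p => Φ p = y), (p₀.1 : G)⁻¹ * p.1 ∈ V := by
      intro p hp
      have e : (p.1 : G) * (s * p.2) * (p.1 : G)⁻¹ = (p₀.1 : G) * (s * p₀.2) * (p₀.1 : G)⁻¹ :=
        mul_left_cancel (congrArg Subtype.val ((Finset.mem_filter.1 hp).2.trans (Finset.mem_filter.1 hp₀).2.symm))
      have h1 := Blocks.IsPPart.conj (hpart p.2) ((p₀.1 : G)⁻¹ * p.1)
      have e2 : (p₀.1 : G)⁻¹ * p.1 * (s * p.2) * ((p₀.1 : G)⁻¹ * p.1)⁻¹ = s * p₀.2 :=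
        calc _ = (p₀.1 : G)⁻¹ * ((p.1 : G) * (s * p.2) * (p.1 : G)⁻¹) * p₀.1 := by group
          _ = _ := by rw [e]; group
      rw [e2] at h1
      have h2 := Blocks.IsPPart.eq Nat.prime_two h1 (hpart p₀.2)
      exact mem_inf.2 ⟨mul_mem (S := Subgroup G) (inv_mem p₀.1.2) p.1.2, mem_centralizer_singleton_iff.2 (mul_inv_eq_iff_eq_mul.1 h2)⟩
    refine le_trans (Finset.card_le_card_of_injOn
      (fun p => if h : (p₀.1 : G)⁻¹ * p.1 ∈ V then (⟨_, h⟩ : V) else 1) (fun _ _ => Finset.mem_univ _)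
      fun p hp q hq hpq => ?_) Finset.card_univ.le
    simp only [dif_pos (hmem p hp), dif_pos (hmem q hq), Subtype.mk.injEq, mul_right_inj] at hpq
    have e := congrArg Subtype.val ((Finset.mem_filter.1 hp).2.trans (Finset.mem_filter.1 hq).2.symm)
    have h1 : (p.1 : G) = q.1 := hpq
    refine Prod.ext (Subtype.ext h1) (Subtype.ext ?_)
    simp only [Φ, h1, mul_right_inj, mul_left_inj] at e
    exact e
  have hsurj : Finset.univ.image Φ = Finset.univ := by
    refine Finset.eq_univ_of_card _ (le_antisymm (Finset.card_le_univ _) ?_)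
    have h := Finset.card_le_mul_card_image (f := Φ) Finset.univ (Fintype.card V) fun y _ => hfib y
    rw [Finset.card_univ, Fintype.card_prod, mul_comm (Fintype.card V)] at h
    exact Nat.le_of_mul_le_mul_right h Fintype.card_pos
  obtain ⟨p, -, hp⟩ := Finset.mem_image.1 (hsurj ▸ Finset.mem_univ (⟨u, hu⟩ : K))
  refine ⟨p.1, p.1.2, p.2, p.2.2.1, (mem_centralizer_singleton_iff.1 p.2.2.2).symm, ?_⟩
  have e : s⁻¹ * ((p.1 : G) * (s * p.2) * (p.1 : G)⁻¹) = u := congrArg Subtype.val hp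
  rw [← e, mul_inv_cancel_left]

end Cfsg.Lib.Lyons
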